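import Mathlib
import Cfsg.Agent.Helper6.Chev.TablesBN

set_option autoImplicit false
set_option linter.unusedSectionVars false
set_option linter.unusedSimpArgs false
set_option linter.unusedVariables false

/-! Levi decomposition in the tabulated Chevalley groups: the degree functional attached to a set
`J` of nodes. -/

namespace Cfsg.Agent.Helper2.Levi

open Cfsg.Lie Cfsg.Agent.Helper6

/-- scaled coordinate functional `m'_k(r) = Σ_i C[k][i] ⟨r, p_i^∨⟩` (`C = det(A) A⁻¹`) -/
def coord (D : ChevalleyDatum) (C : List (List ℤ)) (k r : ℕ) : ℤ :=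
  ((List.range D.rank).map fun i => (C.getD k []).getD i 0 * D.cartan i r).sum

theorem coord_lin {D : ChevalleyDatum} (C : List (List ℤ)) (k : ℕ) {q r s : ℕ} {a b : ℤ}
    (h : ∀ i < D.rank, D.cartan i q = a * D.cartan i r + b * D.cartan i s) :
    coord D C k q = a * coord D C k r + b * coord D C k s := by
  unfold coord
  rw [← List.sum_map_mul_left, ← List.sum_map_mul_left, ← List.sum_map_add]
  congr 1
  apply List.map_congr_left
  intro i hi
  rw [h i (List.mem_range.1 hi)]; ring

open Classical in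
/-- the degree functional: the sum of the (scaled) coordinates outside `J` -/
noncomputable def degJ (D : ChevalleyDatum) (C : List (List ℤ)) (J : Set ℕ) (r : ℕ) : ℤ :=
  (((List.range D.rank).filter (fun k => k ∉ J)).map fun k => coord D C k r).sum

theorem degJ_lin {D : ChevalleyDatum} (C : List (List ℤ)) (J : Set ℕ) {q r s : ℕ} {a b : ℤ}
    (h : ∀ i < D.rank, D.cartan i q = a * D.cartan i r + b * D.cartan i s) :
    degJ D C J q = a * degJ D C J r + b * degJ D C J s := by
  unfold degJ
  rw [← List.sum_map_mul_left, ← List.sum_map_mul_left, ← List.sum_map_add]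
  congr 1
  apply List.map_congr_left
  intro k _
  exact coord_lin C k h

/-- the sign check: the scaled coordinates have the sign of the half the root lies in, and vanish
exactly when the coroot coefficient does -/
def signChk (D : ChevalleyDatum) (C : List (List ℤ)) : Bool :=
  allLt D.nroots fun r => allLt D.rank fun k =>
    (bif Nat.ble (D.nroots / 2) r then decide (0 ≤ coord D C k r) else decide (coord D C k r ≤ 0)) &&
    (decide (coord D C k r = 0) == decide (corootC D r k = 0))

theorem signChk_spec {D : ChevalleyDatum} {C : List (List ℤ)} (h : signChk D C = true) {r : ℕ}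
    (hr : r < D.nroots) {k : ℕ} (hk : k < D.rank) :
    (D.nroots / 2 ≤ r → 0 ≤ coord D C k r) ∧ (r < D.nroots / 2 → coord D C k r ≤ 0) ∧
      (coord D C k r = 0 ↔ corootC D r k = 0) := by
  simp only [signChk, allLt_iff, Bool.and_eq_true, beq_iff_eq, decide_eq_decide] at h
  obtain ⟨h1, h2⟩ := h r hr k hk
  refine ⟨fun hN => ?_, fun hN => ?_, h2⟩
  · rw [show Nat.ble (D.nroots / 2) r = true from Nat.ble_eq ▸ hN] at h1
    simpa using h1
  · have : Nat.ble (D.nroots / 2) r = false := by
      rw [← Bool.not_eq_true, Nat.ble_eq]; omega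
    rw [this] at h1
    simpa using h1

theorem list_sum_nonpos : ∀ (L : List ℤ), (∀ x ∈ L, x ≤ 0) → L.sum ≤ 0
  | [], _ => by simp
  | a :: L, h => by
    rw [List.sum_cons]
    have h1 := h a List.mem_cons_self
    have h2 := list_sum_nonpos L (fun x hx => h x (List.mem_cons_of_mem _ hx))
    omega

section facts

variable {D : ChevalleyDatum} {C : List (List ℤ)} (hchk : signChk D C = true)
  (hsign : ∀ r < D.nroots, (D.IsPosRoot r ↔ D.nroots / 2 ≤ r) ∧ (D.IsNegRoot r ↔ r < D.nroots / 2))
  (J : Set ℕ)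
include hchk hsign

theorem degJ_nonneg_of_pos {r : ℕ} (hr : D.IsPosRoot r) : 0 ≤ degJ D C J r := by
  classical
  have hN := (hsign r hr.1).1.1 hr
  unfold degJ
  apply List.sum_nonneg
  intro x hx
  simp only [List.mem_map, List.mem_filter, List.mem_range] at hx
  obtain ⟨k, ⟨hk, _⟩, rfl⟩ := hx
  exact (signChk_spec hchk hr.1 hk).1 hN

theorem degJ_eq_zero_of_inRootSub {r : ℕ} (hr : D.InRootSub J r) : degJ D C J r = 0 := by
  classical
  unfold degJ
  apply List.sum_eq_zero
  intro x hx
  simp only [List.mem_map, List.mem_filter, List.mem_range, decide_eq_true_eq] at hx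
  obtain ⟨k, ⟨hk, hkJ⟩, rfl⟩ := hx
  exact (signChk_spec hchk hr.1 hk).2.2.2 (hr.2 k hk hkJ)

theorem degJ_pos_iff {r : ℕ} (hr : r < D.nroots) :
    0 < degJ D C J r ↔ D.IsPosRoot r ∧ ¬ D.InRootSub J r := by
  classical
  constructor
  · intro hpos
    refine ⟨?_, fun hin => ?_⟩
    · by_contra hnp
      have hN : r < D.nroots / 2 := by
        by_contra hcon
        exact hnp ((hsign r hr).1.2 (not_lt.1 hcon))
      have : degJ D C J r ≤ 0 := by
        unfold degJ
        apply list_sum_nonpos
        intro x hx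
        simp only [List.mem_map, List.mem_filter, List.mem_range] at hx
        obtain ⟨k, ⟨hk, _⟩, rfl⟩ := hx
        exact (signChk_spec hchk hr hk).2.1 hN
      omega
    · rw [degJ_eq_zero_of_inRootSub hchk hsign J hin] at hpos
      exact lt_irrefl _ hpos
  · rintro ⟨hp, hnin⟩
    have hN := (hsign r hr).1.1 hp
    have hex : ∃ k < D.rank, k ∉ J ∧ corootC D r k ≠ 0 := by
      by_contra hcon
      apply hnin
      refine ⟨hr, fun i hi hiJ => ?_⟩
      by_contra hne
      exact hcon ⟨i, hi, hiJ, hne⟩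
    obtain ⟨k, hk, hkJ, hne⟩ := hex
    have hck : 0 < coord D C k r := by
      have h1 := (signChk_spec hchk hr hk).1 hN
      have h2 : coord D C k r ≠ 0 := fun h0 => hne ((signChk_spec hchk hr hk).2.2.1 h0)
      omega
    have hle : coord D C k r ≤ degJ D C J r := by
      unfold degJ
      apply List.single_le_sum
      · intro x hx
        simp only [List.mem_map, List.mem_filter, List.mem_range] at hx
        obtain ⟨k', ⟨hk', _⟩, rfl⟩ := hx
        exact (signChk_spec hchk hr hk').1 hN
      · simp only [List.mem_map, List.mem_filter, List.mem_range, decide_eq_true_eq]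
        exact ⟨k, ⟨hk, hkJ⟩, rfl⟩
    omega

end facts

theorem degJ_neg {D : ChevalleyDatum} (hB : BasicOK D) (C : List (List ℤ)) (J : Set ℕ) {r : ℕ}
    (hr : r < D.nroots) : degJ D C J (D.neg r) = - degJ D C J r := by
  have h := degJ_lin (D := D) C J (q := D.neg r) (r := r) (s := r) (a := -1) (b := 0)
    (fun i hi => by rw [(hB.negTab r hr).1 i hi]; ring)
  rw [h]; ring

/-- the matrices `C = det(A) A⁻¹` -/
def cG2 : List (List ℤ) := [[2, 3], [1, 2]]
def cB2 : List (List ℤ) := [[2, 2], [1, 2]]
def cD4 : List (List ℤ) := [[2, 2, 1, 1], [2, 4, 2, 2], [1, 2, 2, 1], [1, 2, 1, 2]]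
def cF4 : List (List ℤ) := [[2, 3, 4, 2], [3, 6, 8, 4], [2, 4, 6, 3], [1, 2, 3, 2]]
def cE6 : List (List ℤ) := [[4, 3, 5, 6, 4, 2], [3, 6, 6, 9, 6, 3], [5, 6, 10, 12, 8, 4],
  [6, 9, 12, 18, 12, 6], [4, 6, 8, 12, 10, 5], [2, 3, 4, 6, 5, 4]]
def cE7 : List (List ℤ) := [[4, 4, 6, 8, 6, 4, 2], [4, 7, 8, 12, 9, 6, 3], [6, 8, 12, 16, 12, 8, 4],
  [8, 12, 16, 24, 18, 12, 6], [6, 9, 12, 18, 15, 10, 5], [4, 6, 8, 12, 10, 8, 4],
  [2, 3, 4, 6, 5, 4, 3]]
def cE8 : List (List ℤ) := [[4, 5, 7, 10, 8, 6, 4, 2], [5, 8, 10, 15, 12, 9, 6, 3],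
  [7, 10, 14, 20, 16, 12, 8, 4], [10, 15, 20, 30, 24, 18, 12, 6], [8, 12, 16, 24, 20, 15, 10, 5],
  [6, 9, 12, 18, 15, 12, 8, 4], [4, 6, 8, 12, 10, 8, 6, 3], [2, 3, 4, 6, 5, 4, 3, 2]]

set_option maxRecDepth 100000 in
theorem signChk_G2 : signChk chevG2 cG2 = true := by decide +kernel
set_option maxRecDepth 100000 in
theorem signChk_B2 : signChk chevB2 cB2 = true := by decide +kernel
set_option maxRecDepth 100000 in
theorem signChk_D4 : signChk chevD4 cD4 = true := by decide +kernel
set_option maxRecDepth 100000 in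
theorem signChk_F4 : signChk chevF4 cF4 = true := by decide +kernel
set_option maxRecDepth 100000 in
theorem signChk_E6 : signChk chevE6 cE6 = true := by decide +kernel
set_option maxRecDepth 100000 in
theorem signChk_E7 : signChk chevE7 cE7 = true := by decide +kernel
set_option maxRecDepth 100000 in
theorem signChk_E8 : signChk chevE8 cE8 = true := by decide +kernel

end Cfsg.Agent.Helper2.Levi
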