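import Mathlib
import Cfsg.Agent.Helper2.Levi.A

set_option autoImplicit false
set_option linter.unusedSectionVars false
set_option linter.unusedSimpArgs false
set_option linter.unusedVariables false

/-! Levi decomposition: `P_J` normalises `U_J`. -/

namespace Cfsg.Agent.Helper2.Levi

open Cfsg.Lie Cfsg.Agent.Helper6

variable {D : ChevalleyDatum} {F : Type*} [Field F]

theorem chainRoot_spec (hB : BasicOK D) (hAdd : ∀ i < D.rank, AddOK D i) {r : ℕ}
    (hr : r < D.nroots) (s : ℕ) (m : ℕ) {q : ℕ} (h : D.chainRoot r s (m + 1) = some q) :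
    q < D.nroots ∧ ∀ k < D.rank, D.cartan k q = D.cartan k s + ((m : ℤ) + 1) * D.cartan k r := by
  unfold ChevalleyDatum.chainRoot at h
  rw [Nat.add_sub_cancel, Option.map_eq_some_iff] at h
  obtain ⟨e, he, rfl⟩ := h
  have hmem : e ∈ D.chainEntry r s := List.mem_of_getElem? he
  refine ⟨(chainRel_mem (chainRel_chainEntry hB.chain hr s) e hmem).1, fun k hk => ?_⟩
  have h1 := hAdd k hk r hr s m e he
  rw [h1]

/-- the roots occurring in the commutator formula are `i r + j s` -/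
theorem commTerms_spec (hB : BasicOK D) (hAdd : ∀ i < D.rank, AddOK D i) {r s : ℕ}
    (hr : r < D.nroots) (hs : s < D.nroots) :
    ∀ c ∈ D.commTerms r s, c.1 < D.nroots ∧ 0 < c.2.2.1 ∧ 0 < c.2.2.2 ∧
      ∀ k < D.rank, D.cartan k c.1 =
        (c.2.2.1 : ℤ) * D.cartan k r + (c.2.2.2 : ℤ) * D.cartan k s := by
  intro c hc
  simp only [ChevalleyDatum.commTerms, List.mem_filterMap, List.mem_cons, List.not_mem_nil,
    or_false] at hc
  obtain ⟨cand, hcand, hmap⟩ := hc
  rw [Option.map_eq_some_iff] at hmap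
  obtain ⟨q, hq, rfl⟩ := hmap
  rcases hcand with rfl | rfl | rfl | rfl | rfl | rfl | rfl
  · obtain ⟨h1, h2⟩ := chainRoot_spec hB hAdd hr s 0 hq
    refine ⟨h1, by norm_num, by norm_num, fun k hk => ?_⟩
    simp only []
    rw [h2 k hk]; push_cast; ring
  · obtain ⟨h1, h2⟩ := chainRoot_spec hB hAdd hr s 1 hq
    refine ⟨h1, by norm_num, by norm_num, fun k hk => ?_⟩
    simp only []
    rw [h2 k hk]; push_cast; ring
  · obtain ⟨h1, h2⟩ := chainRoot_spec hB hAdd hs r 1 hq
    refine ⟨h1, by norm_num, by norm_num, fun k hk => ?_⟩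
    simp only []
    rw [h2 k hk]; push_cast; ring
  · obtain ⟨h1, h2⟩ := chainRoot_spec hB hAdd hr s 2 hq
    refine ⟨h1, by norm_num, by norm_num, fun k hk => ?_⟩
    simp only []
    rw [h2 k hk]; push_cast; ring
  · obtain ⟨h1, h2⟩ := chainRoot_spec hB hAdd hs r 2 hq
    refine ⟨h1, by norm_num, by norm_num, fun k hk => ?_⟩
    simp only []
    rw [h2 k hk]; push_cast; ring
  · simp only [Option.bind_eq_some_iff] at hq
    obtain ⟨k', hk', hq⟩ := hq
    obtain ⟨h1, h2⟩ := chainRoot_spec hB hAdd hr s 2 hk'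
    obtain ⟨h3, h4⟩ := chainRoot_spec hB hAdd h1 s 0 hq
    refine ⟨h3, by norm_num, by norm_num, fun k hk => ?_⟩
    simp only []
    rw [h4 k hk, h2 k hk]; push_cast; ring
  · simp only [Option.bind_eq_some_iff] at hq
    obtain ⟨k', hk', hq⟩ := hq
    obtain ⟨h1, h2⟩ := chainRoot_spec hB hAdd hs r 2 hk'
    obtain ⟨h3, h4⟩ := chainRoot_spec hB hAdd h1 r 0 hq
    refine ⟨h3, by norm_num, by norm_num, fun k hk => ?_⟩
    simp only []
    rw [h4 k hk, h2 k hk]; push_cast; ring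

/-- a group element normalises the closure of a set once it and its inverse conjugate the
generators into the closure -/
theorem mem_normalizer_closure {G : Type*} [Group G] {S : Set G} {g : G}
    (h1 : ∀ x ∈ S, g * x * g⁻¹ ∈ Subgroup.closure S)
    (h2 : ∀ x ∈ S, g⁻¹ * x * g ∈ Subgroup.closure S) :
    g ∈ Subgroup.normalizer (Subgroup.closure S : Set G) := by
  have c1 : ∀ x ∈ Subgroup.closure S, g * x * g⁻¹ ∈ Subgroup.closure S := by
    intro x hx
    induction hx using Subgroup.closure_induction with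
    | mem x hx => exact h1 x hx
    | one => simp
    | mul x y _ _ hx hy =>
      have e : g * (x * y) * g⁻¹ = (g * x * g⁻¹) * (g * y * g⁻¹) := by group
      rw [e]; exact mul_mem hx hy
    | inv x _ hx =>
      have e : g * x⁻¹ * g⁻¹ = (g * x * g⁻¹)⁻¹ := by group
      rw [e]; exact inv_mem hx
  have c2 : ∀ x ∈ Subgroup.closure S, g⁻¹ * x * g ∈ Subgroup.closure S := by
    intro x hx
    induction hx using Subgroup.closure_induction with
    | mem x hx => exact h2 x hx
    | one => simp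
    | mul x y _ _ hx hy =>
      have e : g⁻¹ * (x * y) * g = (g⁻¹ * x * g) * (g⁻¹ * y * g) := by group
      rw [e]; exact mul_mem hx hy
    | inv x _ hx =>
      have e : g⁻¹ * x⁻¹ * g = (g⁻¹ * x * g)⁻¹ := by group
      rw [e]; exact inv_mem hx
  rw [Subgroup.mem_normalizer_iff]
  intro x
  constructor
  · exact c1 x
  · intro hx
    have h3 := c2 _ hx
    have e : g⁻¹ * (g * x * g⁻¹) * g = x := by group
    rwa [e] at h3

/-- the package of table facts -/
structure LData (D : ChevalleyDatum) (F : Type*) [Field F] (C : List (List ℤ)) : Prop where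
  Δ : BNData D F
  chk : signChk D C = true

namespace LData

variable {C : List (List ℤ)} (L : LData D F C) (J : Set ℕ)
include L

theorem pos_iff {r : ℕ} (hr : r < D.nroots) :
    0 < degJ D C J r ↔ D.IsPosRoot r ∧ ¬ D.InRootSub J r :=
  degJ_pos_iff L.chk L.Δ.hsign J hr

theorem xU_mem_UJ {r : ℕ} (hr : r < D.nroots) (hd : 0 < degJ D C J r) (t : F) :
    xU L.Δ.hB r t ∈ D.unipotentRadical F J := by
  obtain ⟨h1, h2⟩ := (L.pos_iff J hr).1 hd
  exact Subgroup.subset_closure ⟨r, t, h1, h2, rfl⟩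

theorem wordU_mem_UJ (w : List (ℕ × F)) (hw : ∀ p ∈ w, p.1 < D.nroots ∧ 0 < degJ D C J p.1) :
    wordU L.Δ.hB w ∈ D.unipotentRadical F J := by
  unfold wordU
  apply Subgroup.list_prod_mem
  intro g hg
  simp only [List.mem_map] at hg
  obtain ⟨p, hp, rfl⟩ := hg
  exact L.xU_mem_UJ J (hw p hp).1 (hw p hp).2 p.2

/-- conjugation by `x_s(u)`, `deg s ≥ 0`, maps the generators of `U_J` into `U_J` -/
theorem conj_xU_mem {r s : ℕ} (hr : r < D.nroots) (hs : s < D.nroots)
    (hdr : 0 < degJ D C J r) (hds : 0 ≤ degJ D C J s) (t u : F) :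
    xU L.Δ.hB s u * xU L.Δ.hB r t * (xU L.Δ.hB s u)⁻¹ ∈ D.unipotentRadical F J := by
  have hB := L.Δ.hB
  by_cases h1 : r = s
  · subst h1
    have e : xU L.Δ.hB r u * xU L.Δ.hB r t * (xU L.Δ.hB r u)⁻¹ = xU L.Δ.hB r t := by
      rw [xU_mul, add_comm, ← xU_mul, mul_inv_cancel_right]
    rw [e]
    exact L.xU_mem_UJ J hr hdr t
  · by_cases h2 : r = D.neg s
    · exfalso
      rw [h2, degJ_neg hB C J hs] at hdr
      omega
    · have hc := L.Δ.hC s hs r hr h1 h2 (-u) t
      have hcU : xU L.Δ.hB r t * xU L.Δ.hB s (-u) =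
          xU L.Δ.hB s (-u) * xU L.Δ.hB r t * wordU L.Δ.hB (D.commWord F s r (-u) t) := by
        apply Units.ext
        simp only [Units.val_mul, xU_val, wordU_val]
        exact hc
      have e : xU L.Δ.hB s u * xU L.Δ.hB r t * (xU L.Δ.hB s u)⁻¹ =
          xU L.Δ.hB r t * wordU L.Δ.hB (D.commWord F s r (-u) t) := by
        rw [xU_inv, mul_assoc, hcU, ← mul_assoc, ← mul_assoc, xU_mul, add_neg_cancel, xU_zero,
          one_mul]
      rw [e]
      refine Subgroup.mul_mem _ (L.xU_mem_UJ J hr hdr t) (L.wordU_mem_UJ J _ ?_)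
      intro p hp
      unfold ChevalleyDatum.commWord at hp
      simp only [List.mem_map] at hp
      obtain ⟨c, hc', rfl⟩ := hp
      obtain ⟨a1, a2, a3, a4⟩ := commTerms_spec hB L.Δ.hAdd hs hr c hc'
      refine ⟨a1, ?_⟩
      simp only []
      rw [degJ_lin C J a4]
      have p1 : (0 : ℤ) ≤ (c.2.2.1 : ℤ) * degJ D C J s :=
        mul_nonneg (Int.natCast_nonneg _) hds
      have p2 : (0 : ℤ) < (c.2.2.2 : ℤ) * degJ D C J r :=
        mul_pos (by exact_mod_cast a3) hdr
      omega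

/-- `x_s(u)`, `deg s ≥ 0`, normalises `U_J` -/
theorem xU_mem_normalizer {s : ℕ} (hs : s < D.nroots) (hds : 0 ≤ degJ D C J s) (u : F) :
    xU L.Δ.hB s u ∈ Subgroup.normalizer (D.unipotentRadical F J : Set (GL D.Idx F)) := by
  unfold ChevalleyDatum.unipotentRadical
  apply mem_normalizer_closure
  · rintro x ⟨r, t, hr1, hr2, hx⟩
    have hx' : x = xU L.Δ.hB r t := Units.ext (by rw [hx, xU_val])
    rw [hx']
    exact L.conj_xU_mem J hr1.1 hs ((L.pos_iff J hr1.1).2 ⟨hr1, hr2⟩) hds t u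
  · rintro x ⟨r, t, hr1, hr2, hx⟩
    have hx' : x = xU L.Δ.hB r t := Units.ext (by rw [hx, xU_val])
    rw [hx', xU_inv]
    have := L.conj_xU_mem J hr1.1 hs ((L.pos_iff J hr1.1).2 ⟨hr1, hr2⟩) hds t (-u)
    rwa [xU_inv, neg_neg] at this

/-- `H` normalises `U_J` -/
theorem diagonal_le_normalizer :
    D.diagonalSubgroup F ≤ Subgroup.normalizer (D.unipotentRadical F J : Set (GL D.Idx F)) := by
  have key : ∀ h ∈ D.diagonalSubgroup F, ∀ x ∈ {g : GL D.Idx F | ∃ (r : ℕ) (t : F),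
      D.IsPosRoot r ∧ ¬ D.InRootSub J r ∧ (g : Matrix D.Idx D.Idx F) = D.x F r t},
      h * x * h⁻¹ ∈ D.unipotentRadical F J := by
    rintro h hh x ⟨r, t, hr1, hr2, hx⟩
    have hx' : x = xU L.Δ.hB r t := Units.ext (by rw [hx, xU_val])
    obtain ⟨c, hc, hkv⟩ := exists_torMat_of_mem_diagonal L.Δ.hB L.Δ.hH hh
    have hconj : h * xU L.Δ.hB r t * h⁻¹ = xU L.Δ.hB r (torChar D c r * t) := by
      rw [mul_inv_eq_iff_eq_mul]
      apply Units.ext
      rw [Units.val_mul, Units.val_mul, hkv, xU_val, xU_val]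
      exact torMat_mul_x L.Δ.hB L.Δ.hAdd hc hr1.1 t
    rw [hx', hconj]
    exact L.xU_mem_UJ J hr1.1 ((L.pos_iff J hr1.1).2 ⟨hr1, hr2⟩) _
  intro h hh
  unfold ChevalleyDatum.unipotentRadical
  apply mem_normalizer_closure
  · exact key h hh
  · intro x hx
    have := key h⁻¹ (Subgroup.inv_mem _ hh) x hx
    rwa [inv_inv] at this

theorem simple_inRootSub {j : ℕ} (hj : j < D.rank) (hjJ : j ∈ J) : D.InRootSub J (D.simple j) := by
  refine ⟨(L.Δ.hAll j hj).hS.1, fun i hi hiJ => ?_⟩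
  have := (L.Δ.hAll j hj).hE.1 i hi
  unfold corootC at this
  rw [this, if_neg]
  rintro rfl
  exact hiJ hjJ

/-- the reflections in the nodes of `J` preserve the degree -/
theorem degJ_wR {j : ℕ} (hj : j < D.rank) (hjJ : j ∈ J) {s : ℕ} (hs : s < D.nroots) :
    degJ D C J (wR D (D.simple j) s) = degJ D C J s := by
  have hA := L.Δ.hAll j hj
  have hws := wR_lt L.Δ.hB hA.hS.1 hA.hR hs
  have h := degJ_lin (D := D) C J (q := wR D (D.simple j) s) (r := s) (s := D.simple j) (a := 1)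
    (b := D.cartan j (wR D (D.simple j) s))
    (fun k hk => by
      have := hA.hC.cart k hk s hs
      rw [this]; ring)
  rw [h, degJ_eq_zero_of_inRootSub L.chk L.Δ.hsign J (L.simple_inRootSub J hj hjJ)]
  ring

/-- `n_j`, `j ∈ J`, normalises `U_J` -/
theorem nU_mem_normalizer {j : ℕ} (hj : j < D.rank) (hjJ : j ∈ J) :
    nU L.Δ.hB (D.simple j) (one_ne_zero (α := F)) ∈
      Subgroup.normalizer (D.unipotentRadical F J : Set (GL D.Idx F)) := by
  have hA := L.Δ.hAll j hj
  unfold ChevalleyDatum.unipotentRadical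
  apply mem_normalizer_closure
  · rintro x ⟨r, t, hr1, hr2, hx⟩
    have hx' : x = xU L.Δ.hB r t := Units.ext (by rw [hx, xU_val])
    rw [hx', nU_conj_xU L.Δ.hB hA hr1.1]
    refine L.xU_mem_UJ J (wR_lt L.Δ.hB hA.hS.1 hA.hR hr1.1) ?_ _
    rw [L.degJ_wR J hj hjJ hr1.1]
    exact (L.pos_iff J hr1.1).2 ⟨hr1, hr2⟩
  · rintro x ⟨r, t, hr1, hr2, hx⟩
    have hx' : x = xU L.Δ.hB r t := Units.ext (by rw [hx, xU_val])
    rw [hx', nU_inv_conj_xU L.Δ.hB hA hr1.1]
    refine L.xU_mem_UJ J (wR_lt L.Δ.hB hA.hS.1 hA.hR hr1.1) ?_ _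
    rw [L.degJ_wR J hj hjJ hr1.1]
    exact (L.pos_iff J hr1.1).2 ⟨hr1, hr2⟩

/-- **`P_J` normalises `U_J`.** -/
theorem parabolic_le_normalizer :
    D.parabolicSubgroup F J ≤
      Subgroup.normalizer (D.unipotentRadical F J : Set (GL D.Idx F)) := by
  unfold ChevalleyDatum.parabolicSubgroup ChevalleyDatum.borelSubgroup
  refine sup_le (sup_le ?_ (L.diagonal_le_normalizer J)) ?_
  · unfold ChevalleyDatum.posUnipotent
    rw [Subgroup.closure_le]
    rintro g ⟨s, u, hs, hg⟩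
    have hg' : g = xU L.Δ.hB s u := Units.ext (by rw [hg, xU_val])
    rw [hg']
    exact L.xU_mem_normalizer J hs.1 (degJ_nonneg_of_pos L.chk L.Δ.hsign J hs) u
  · rw [Subgroup.closure_le]
    rintro g ⟨j, hjJ, hj, hg⟩
    have hg' : g = nU L.Δ.hB (D.simple j) (one_ne_zero (α := F)) :=
      Units.ext (by rw [hg, nU_val])
    rw [hg']
    exact L.nU_mem_normalizer J hj hjJ

end LData

end Cfsg.Agent.Helper2.Levi
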