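import Mathlib
import Cfsg.Agent.Helper2.Levi.B

set_option autoImplicit false
set_option linter.unusedSectionVars false
set_option linter.unusedSimpArgs false
set_option linter.unusedVariables false

/-! Levi decomposition: `U_J ⊓ L_J = ⊥`, by the grading of the module attached to `J`. -/

namespace Cfsg.Agent.Helper2.Levi

open Cfsg.Lie Cfsg.Agent.Helper6

variable {D : ChevalleyDatum} {F : Type*} [Field F]

/-- the degree of a coordinate -/
noncomputable def degI (D : ChevalleyDatum) (C : List (List ℤ)) (J : Set ℕ) : D.Idx → ℤ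
  | Sum.inl _ => 0
  | Sum.inr s => degJ D C J s.val

theorem ev_ne_zero {u : ℕ} {a : D.Idx} (h : ev D F u a ≠ 0) :
    ∃ hu : u < D.nroots, a = Sum.inr ⟨u, hu⟩ := by
  rcases a with i | v
  · rw [ev_apply_inl] at h; exact absurd rfl h
  · rw [ev_apply_inr] at h
    by_cases hv : v.val = u
    · subst hv
      exact ⟨v.isLt, rfl⟩
    · rw [if_neg hv] at h; exact absurd rfl h

theorem hr_ne_zero {r : ℕ} {a : D.Idx} (h : hr D F r a ≠ 0) : ∃ i, a = Sum.inl i := by
  rcases a with i | v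
  · exact ⟨i, rfl⟩
  · exfalso
    apply h
    unfold hr
    rw [Finset.sum_apply]
    apply Finset.sum_eq_zero
    intro i _
    rw [Pi.smul_apply, hv_apply_inr, smul_zero]

theorem chainVec_ne_zero (t : F) : ∀ (k0 : ℕ) (L : List (ℕ × ℤ)) (a : D.Idx),
    chainVec D F t k0 L a ≠ 0 → ∃ (m : ℕ) (q : ℕ × ℤ), L[m]? = some q ∧
      ∃ hq : q.1 < D.nroots, a = Sum.inr ⟨q.1, hq⟩ := by
  intro k0 L
  induction L generalizing k0 with
  | nil => intro a h; simp [chainVec] at h
  | cons q L ih =>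
    intro a h
    simp only [chainVec, Pi.add_apply, Pi.smul_apply] at h
    by_cases h1 : ev D F q.1 a = 0
    · rw [h1, smul_zero, zero_add] at h
      obtain ⟨m, q', hm, hq'⟩ := ih (k0 + 1) a h
      exact ⟨m + 1, q', by simpa using hm, hq'⟩
    · obtain ⟨hu, ha⟩ := ev_ne_zero h1
      exact ⟨0, q, by simp, hu, ha⟩

/-- entries of a matrix from its columns -/
theorem entry_of_cols {M : Matrix D.Idx D.Idx F} {Q : D.Idx → D.Idx → Prop}
    (h1 : ∀ i (hi : i < D.rank), ∀ a, (M.mulVec (hv D F i)) a ≠ 0 → Q a (Sum.inl ⟨i, hi⟩))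
    (h2 : ∀ s (hs : s < D.nroots), ∀ a, (M.mulVec (ev D F s)) a ≠ 0 → Q a (Sum.inr ⟨s, hs⟩)) :
    ∀ a b, M a b ≠ 0 → Q a b := by
  intro a b hab
  rcases b with i | s
  · apply h1 i.val i.isLt a
    rw [mulVec_hv M i.isLt]
    exact hab
  · apply h2 s.val s.isLt a
    rw [mulVec_ev M s.isLt]
    exact hab

/-- `x_r(t) - 1` shifts the degree by positive multiples of `deg r` -/
theorem x_sub_one_shift {C : List (List ℤ)} (L : LData D F C) (J : Set ℕ) {r : ℕ}
    (hrn : r < D.nroots) (t : F) :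
    ∀ a b, (D.x F r t - 1) a b ≠ 0 →
      ∃ k : ℕ, 0 < k ∧ degI D C J a = degI D C J b + k * degJ D C J r := by
  have hB := L.Δ.hB
  have hnr := hB.neg r hrn
  apply entry_of_cols
  · intro i hi a ha
    rw [Matrix.sub_mulVec, Matrix.one_mulVec, x_mulVec_hv hB hrn t hi, sub_sub_cancel_left,
      Pi.neg_apply, Pi.smul_apply, neg_ne_zero] at ha
    have h1 : ev D F r a ≠ 0 := fun h0 => ha (by rw [h0, smul_zero])
    obtain ⟨hu, rfl⟩ := ev_ne_zero h1
    exact ⟨1, Nat.one_pos, by simp [degI]⟩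
  · intro s hs a ha
    rw [Matrix.sub_mulVec, Matrix.one_mulVec] at ha
    by_cases e1 : s = r
    · subst e1
      rw [x_mulVec_ev_self hB hs, sub_self] at ha
      exact absurd rfl ha
    · by_cases e2 : s = D.neg r
      · subst e2
        rw [x_mulVec_ev_neg hB hrn] at ha
        have ha' : (t • hr D F r - t ^ 2 • ev D F r) a ≠ 0 := by
          intro h0; apply ha
          rw [← h0]
          simp only [Pi.sub_apply, Pi.add_apply]
          ring
        by_cases h1 : ev D F r a = 0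
        · have h2 : hr D F r a ≠ 0 := by
            intro h0; apply ha'
            simp only [Pi.sub_apply, Pi.smul_apply, h0, h1, smul_zero, sub_zero]
          obtain ⟨i, rfl⟩ := hr_ne_zero h2
          refine ⟨1, Nat.one_pos, ?_⟩
          simp only [degI, Nat.cast_one, one_mul]
          rw [degJ_neg hB C J hrn]; ring
        · obtain ⟨hu, rfl⟩ := ev_ne_zero h1
          refine ⟨2, by norm_num, ?_⟩
          simp only [degI, Nat.cast_ofNat]
          rw [degJ_neg hB C J hrn]; ring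
      · have hm : MemOK D r s := ⟨hs, e1, e2⟩
        rw [x_of_lt hrn, x_mulVec_ev' hB.keys ⟨r, hrn⟩ t hm, add_sub_cancel_left] at ha
        obtain ⟨m, q, hmq, hq, rfl⟩ := chainVec_ne_zero t 0 _ a ha
        refine ⟨m + 1, Nat.succ_pos m, ?_⟩
        simp only [degI]
        have h := degJ_lin (D := D) C J (q := q.1) (r := s) (s := r) (a := 1)
          (b := (m : ℤ) + 1) (fun k hk => by
            rw [L.Δ.hAdd k hk r hrn s m q hmq]; ring)
        rw [h]; push_cast; ring

/-- degree-preserving matrices -/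
def Gr0 (D : ChevalleyDatum) (C : List (List ℤ)) (J : Set ℕ) (M : Matrix D.Idx D.Idx F) : Prop :=
  ∀ a b, M a b ≠ 0 → degI D C J a = degI D C J b

/-- matrices `1 +` (degree-raising) -/
def GrP (D : ChevalleyDatum) (C : List (List ℤ)) (J : Set ℕ) (M : Matrix D.Idx D.Idx F) : Prop :=
  ∀ a b, (M - 1) a b ≠ 0 → degI D C J b < degI D C J a

theorem Gr0_one (C : List (List ℤ)) (J : Set ℕ) : Gr0 D C J (1 : Matrix D.Idx D.Idx F) := by
  intro a b h
  rw [Matrix.one_apply] at h
  by_cases hab : a = b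
  · rw [hab]
  · rw [if_neg hab] at h; exact absurd rfl h

theorem Gr0_mul {C : List (List ℤ)} {J : Set ℕ} {M N : Matrix D.Idx D.Idx F}
    (hM : Gr0 D C J M) (hN : Gr0 D C J N) : Gr0 D C J (M * N) := by
  intro a b h
  rw [Matrix.mul_apply] at h
  obtain ⟨c, _, hc⟩ := Finset.exists_ne_zero_of_sum_ne_zero h
  have h1 : M a c ≠ 0 := left_ne_zero_of_mul hc
  have h2 : N c b ≠ 0 := right_ne_zero_of_mul hc
  rw [hM a c h1, hN c b h2]

theorem GrP_one (C : List (List ℤ)) (J : Set ℕ) : GrP D C J (1 : Matrix D.Idx D.Idx F) := by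
  intro a b h
  rw [sub_self] at h
  exact absurd rfl h

theorem GrP_mul {C : List (List ℤ)} {J : Set ℕ} {M N : Matrix D.Idx D.Idx F}
    (hM : GrP D C J M) (hN : GrP D C J N) : GrP D C J (M * N) := by
  intro a b h
  have e : M * N - 1 = (M - 1) * (N - 1) + (M - 1) + (N - 1) := by
    rw [sub_mul, mul_sub, mul_sub, mul_one, one_mul, mul_one]; abel
  rw [e, Matrix.add_apply, Matrix.add_apply] at h
  by_cases h1 : ((M - 1) * (N - 1)) a b = 0
  · rw [h1, zero_add] at h
    by_cases h2 : (M - 1) a b = 0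
    · rw [h2, zero_add] at h
      exact hN a b h
    · exact hM a b h2
  · rw [Matrix.mul_apply] at h1
    obtain ⟨c, _, hc⟩ := Finset.exists_ne_zero_of_sum_ne_zero h1
    have h2 := hM a c (left_ne_zero_of_mul hc)
    have h3 := hN c b (right_ne_zero_of_mul hc)
    exact lt_trans h3 h2

/-- the group of degree-preserving units -/
def GR0 (D : ChevalleyDatum) (F : Type*) [Field F] (C : List (List ℤ)) (J : Set ℕ) :
    Subgroup (GL D.Idx F) where
  carrier := {g | Gr0 D C J (g : Matrix D.Idx D.Idx F) ∧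
    Gr0 D C J ((g⁻¹ : GL D.Idx F) : Matrix D.Idx D.Idx F)}
  one_mem' := by
    refine ⟨Gr0_one C J, ?_⟩
    rw [inv_one]
    exact Gr0_one C J
  mul_mem' := by
    rintro g h ⟨g1, g2⟩ ⟨h1, h2⟩
    refine ⟨?_, ?_⟩
    · rw [Units.val_mul]; exact Gr0_mul g1 h1
    · rw [mul_inv_rev, Units.val_mul]; exact Gr0_mul h2 g2
  inv_mem' := by
    rintro g ⟨g1, g2⟩
    refine ⟨g2, ?_⟩
    rw [inv_inv]; exact g1

/-- the group of units of the form `1 +` (degree-raising) -/
def GRP (D : ChevalleyDatum) (F : Type*) [Field F] (C : List (List ℤ)) (J : Set ℕ) :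
    Subgroup (GL D.Idx F) where
  carrier := {g | GrP D C J (g : Matrix D.Idx D.Idx F) ∧
    GrP D C J ((g⁻¹ : GL D.Idx F) : Matrix D.Idx D.Idx F)}
  one_mem' := by
    refine ⟨GrP_one C J, ?_⟩
    rw [inv_one]
    exact GrP_one C J
  mul_mem' := by
    rintro g h ⟨g1, g2⟩ ⟨h1, h2⟩
    refine ⟨?_, ?_⟩
    · rw [Units.val_mul]; exact GrP_mul g1 h1
    · rw [mul_inv_rev, Units.val_mul]; exact GrP_mul h2 g2
  inv_mem' := by
    rintro g ⟨g1, g2⟩
    refine ⟨g2, ?_⟩
    rw [inv_inv]; exact g1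

theorem GR0_inf_GRP (C : List (List ℤ)) (J : Set ℕ) : GR0 D F C J ⊓ GRP D F C J = ⊥ := by
  rw [eq_bot_iff]
  rintro g ⟨⟨h0, _⟩, ⟨hP, _⟩⟩
  rw [Subgroup.mem_bot]
  apply Units.ext
  rw [Units.val_one]
  have hz : (g : Matrix D.Idx D.Idx F) - 1 = 0 := by
    ext a b
    rw [Matrix.zero_apply]
    by_contra hne
    have h1 := hP a b hne
    have hab : a ≠ b := by
      rintro rfl
      exact lt_irrefl _ h1
    have h2 : (g : Matrix D.Idx D.Idx F) a b ≠ 0 := by
      rw [Matrix.sub_apply, Matrix.one_apply, if_neg hab, sub_zero] at hne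
      exact hne
    have h3 := h0 a b h2
    omega
  exact sub_eq_zero.1 hz

namespace LData

variable {C : List (List ℤ)} (L : LData D F C) (J : Set ℕ)
include L

theorem xU_mem_GR0 {r : ℕ} (hr : r < D.nroots) (hd : degJ D C J r = 0) (t : F) :
    xU L.Δ.hB r t ∈ GR0 D F C J := by
  have key : ∀ u : F, Gr0 D C J (D.x F r u) := by
    intro u a b hab
    by_cases e : a = b
    · rw [e]
    · have h1 : (D.x F r u - 1) a b ≠ 0 := by
        rw [Matrix.sub_apply, Matrix.one_apply, if_neg e, sub_zero]; exact hab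
      obtain ⟨k, _, hk⟩ := x_sub_one_shift L J hr u a b h1
      rw [hk, hd, mul_zero, add_zero]
  refine ⟨key t, ?_⟩
  rw [xU_inv]
  exact key (-t)

theorem xU_mem_GRP {r : ℕ} (hr : r < D.nroots) (hd : 0 < degJ D C J r) (t : F) :
    xU L.Δ.hB r t ∈ GRP D F C J := by
  have key : ∀ u : F, GrP D C J (D.x F r u) := by
    intro u a b hab
    obtain ⟨k, hk0, hk⟩ := x_sub_one_shift L J hr u a b hab
    rw [hk]
    have : (0 : ℤ) < (k : ℤ) * degJ D C J r := mul_pos (by exact_mod_cast hk0) hd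
    omega
  refine ⟨key t, ?_⟩
  rw [xU_inv]
  exact key (-t)

theorem diagonal_le_GR0 : D.diagonalSubgroup F ≤ GR0 D F C J := by
  have key : ∀ h ∈ D.diagonalSubgroup F, Gr0 D C J (h : Matrix D.Idx D.Idx F) := by
    intro h hh a b hab
    obtain ⟨c, _, hv⟩ := exists_torMat_of_mem_diagonal L.Δ.hB L.Δ.hH hh
    rw [hv] at hab
    unfold torMat dMat at hab
    by_cases e : a = b
    · rw [e]
    · rw [Matrix.diagonal_apply_ne _ e] at hab
      exact absurd rfl hab
  intro h hh
  exact ⟨key h hh, key h⁻¹ (Subgroup.inv_mem _ hh)⟩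

theorem levi_le_GR0 : D.leviSubgroup F J ≤ GR0 D F C J := by
  unfold ChevalleyDatum.leviSubgroup
  refine sup_le (L.diagonal_le_GR0 J) ?_
  rw [Subgroup.closure_le]
  rintro g ⟨r, t, hr, hg⟩
  have hg' : g = xU L.Δ.hB r t := Units.ext (by rw [hg, xU_val])
  rw [hg']
  exact L.xU_mem_GR0 J hr.1 (degJ_eq_zero_of_inRootSub L.chk L.Δ.hsign J hr) t

theorem radical_le_GRP : D.unipotentRadical F J ≤ GRP D F C J := by
  unfold ChevalleyDatum.unipotentRadical
  rw [Subgroup.closure_le]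
  rintro g ⟨r, t, hr1, hr2, hg⟩
  have hg' : g = xU L.Δ.hB r t := Units.ext (by rw [hg, xU_val])
  rw [hg']
  exact L.xU_mem_GRP J hr1.1 ((L.pos_iff J hr1.1).2 ⟨hr1, hr2⟩) t

/-- **`U_J ⊓ L_J = ⊥`.** -/
theorem radical_inf_levi : D.unipotentRadical F J ⊓ D.leviSubgroup F J = ⊥ := by
  rw [eq_bot_iff, ← GR0_inf_GRP (D := D) (F := F) C J]
  exact le_inf (inf_le_right.trans (L.levi_le_GR0 J)) (inf_le_left.trans (L.radical_le_GRP J))

end LData

end Cfsg.Agent.Helper2.Levi
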