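import Mathlib
import Cfsg.Agent.Helper2.Levi.C

set_option autoImplicit false
set_option linter.unusedSectionVars false
set_option linter.unusedSimpArgs false
set_option linter.unusedVariables false

/-! Levi decomposition: `P_J = U_J L_J`. -/

namespace Cfsg.Agent.Helper2.Levi

open Cfsg.Lie Cfsg.Agent.Helper6

variable {D : ChevalleyDatum} {F : Type*} [Field F]

/-- roots reachable from the nodes of `J` by reflections in nodes of `J` -/
inductive JReach (D : ChevalleyDatum) (J : Set ℕ) : ℕ → Prop
  | simple {j : ℕ} (hj : j < D.rank) (hJ : j ∈ J) : JReach D J (D.simple j)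
  | step {j s : ℕ} (hj : j < D.rank) (hJ : j ∈ J) (hs : s < D.nroots) :
      JReach D J s → JReach D J (wR D (D.simple j) s)

/-- the lowering check: a root of the upper half is fundamental or is lowered, inside the upper
half, by the reflection in a node of its support -/
def jreachChk (D : ChevalleyDatum) : Bool :=
  allLt D.nroots fun r =>
    Nat.blt r (D.nroots / 2) || (anyLt D.rank fun i => Nat.beq r (D.simple i)) ||
    (anyLt D.rank fun i => decide (0 < corootC D r i) && Nat.ble (D.nroots / 2) (wD D i r) &&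
      Nat.blt (wD D i r) r)

set_option maxRecDepth 100000 in
theorem jreachChk_G2 : jreachChk chevG2 = true := by decide +kernel
set_option maxRecDepth 100000 in
theorem jreachChk_B2 : jreachChk chevB2 = true := by decide +kernel
set_option maxRecDepth 100000 in
theorem jreachChk_D4 : jreachChk chevD4 = true := by decide +kernel
set_option maxRecDepth 100000 in
theorem jreachChk_F4 : jreachChk chevF4 = true := by decide +kernel
set_option maxRecDepth 100000 in
theorem jreachChk_E6 : jreachChk chevE6 = true := by decide +kernel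
set_option maxRecDepth 100000 in
theorem jreachChk_E7 : jreachChk chevE7 = true := by decide +kernel
set_option maxRecDepth 100000 in
theorem jreachChk_E8 : jreachChk chevE8 = true := by decide +kernel

theorem JReach.lt {J : Set ℕ} (hB : BasicOK D) (hA : ∀ i < D.rank, SimpleAll D i) {r : ℕ}
    (h : JReach D J r) : r < D.nroots := by
  induction h with
  | simple hj _ => exact (hA _ hj).hS.1
  | step hj _ hs _ _ => exact wR_lt hB (hA _ hj).hS.1 (hA _ hj).hR hs

theorem JReach.neg {J : Set ℕ} (hB : BasicOK D) (hA : ∀ i < D.rank, SimpleAll D i) {r : ℕ}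
    (h : JReach D J r) : JReach D J (D.neg r) := by
  induction h with
  | @simple j hj hJ =>
    have := JReach.step hj hJ (hA j hj).hS.1 (JReach.simple (D := D) hj hJ)
    unfold wR at this
    rwa [if_pos rfl] at this
  | @step j s hj hJ hs _ ih =>
    rw [← (hA j hj).hC.negw s hs]
    exact JReach.step hj hJ (hB.neg s hs).1 ih

namespace LData

variable {C : List (List ℤ)} (L : LData D F C) (J : Set ℕ)
include L

theorem inRootSub_wR {j : ℕ} (hj : j < D.rank) (hjJ : j ∈ J) {s : ℕ} (hs : D.InRootSub J s) :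
    D.InRootSub J (wR D (D.simple j) s) := by
  have hA := L.Δ.hAll j hj
  refine ⟨wR_lt L.Δ.hB hA.hS.1 hA.hR hs.1, fun k hk hkJ => ?_⟩
  have h1 := hA.hC.coroot s hs.1 k hk
  have hne : k ≠ j := by rintro rfl; exact hkJ hjJ
  rw [if_neg hne, sub_zero] at h1
  unfold corootC at h1
  rw [h1]
  exact hs.2 k hk hkJ

theorem inRootSub_neg {s : ℕ} (hs : D.InRootSub J s) : D.InRootSub J (D.neg s) := by
  refine ⟨(L.Δ.hB.neg s hs.1).1, fun k hk hkJ => ?_⟩
  have h1 := (L.Δ.hB.negTab s hs.1).2 k hk
  unfold corootC at h1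
  rw [h1, hs.2 k hk hkJ, neg_zero]

/-- the positive roots of `Φ_J` are `J`-reachable -/
theorem jreach_of_pos (hchk : jreachChk D = true) :
    ∀ r, D.nroots / 2 ≤ r → D.InRootSub J r → JReach D J r := by
  simp only [jreachChk, allLt_iff, Bool.or_eq_true, Bool.and_eq_true, Nat.blt_eq, Nat.ble_eq,
    anyLt_iff, Nat.beq_eq, decide_eq_true_eq] at hchk
  intro r
  induction r using Nat.strong_induction_on with
  | _ r ih =>
    intro hN hin
    rcases hchk r hin.1 with (h1 | ⟨i, hi, h1⟩) | ⟨i, hi, ⟨h1, h2⟩, h3⟩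
    · omega
    · have hiJ : i ∈ J := by
        by_contra hcon
        have h2 := hin.2 i hi hcon
        have h3 := (L.Δ.hAll i hi).hE.1 i hi
        unfold corootC at h3
        rw [h1, h3, if_pos rfl] at h2
        exact one_ne_zero h2
      rw [h1]
      exact JReach.simple hi hiJ
    · have hA := L.Δ.hAll i hi
      have hw : wD D i r = wR D (D.simple i) r :=
        wD_eq L.Δ.hF L.Δ.hn (fun s hs => wR_lt L.Δ.hB hA.hS.1 hA.hR hs) hin.1
      rw [hw] at h2 h3
      have hiJ : i ∈ J := by
        by_contra hcon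
        have h4 := hin.2 i hi hcon
        unfold corootC at h1
        omega
      have h5 := ih _ h3 h2 (L.inRootSub_wR J hi hiJ hin)
      have h6 := JReach.step hi hiJ (lt_trans h3 hin.1) h5
      rwa [wR_wR L.Δ.hB hA hin.1] at h6

/-- all roots of `Φ_J` are `J`-reachable -/
theorem jreach_of_inRootSub (hchk : jreachChk D = true) {r : ℕ} (hin : D.InRootSub J r) :
    JReach D J r := by
  by_cases hN : D.nroots / 2 ≤ r
  · exact L.jreach_of_pos J hchk r hN hin
  · have hnr := L.Δ.hB.neg r hin.1
    have hN' : D.nroots / 2 ≤ D.neg r := L.Δ.hnegpos hin.1 (not_le.1 hN)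
    have := (L.jreach_of_pos J hchk _ hN' (L.inRootSub_neg J hin)).neg L.Δ.hB L.Δ.hAll
    rwa [hnr.2.2] at this

theorem nU_mem_parabolic {j : ℕ} (hj : j < D.rank) (hjJ : j ∈ J) :
    nU L.Δ.hB (D.simple j) (one_ne_zero (α := F)) ∈ D.parabolicSubgroup F J :=
  Subgroup.mem_sup_right (Subgroup.subset_closure ⟨j, hjJ, hj, rfl⟩)

theorem xU_pos_mem_parabolic {r : ℕ} (hr : D.IsPosRoot r) (t : F) :
    xU L.Δ.hB r t ∈ D.parabolicSubgroup F J :=
  Subgroup.mem_sup_left (Subgroup.mem_sup_left (Subgroup.subset_closure ⟨r, t, hr, rfl⟩))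

/-- the root subgroups of `J`-reachable roots lie in `P_J` -/
theorem xU_mem_parabolic_of_jreach {r : ℕ} (h : JReach D J r) :
    ∀ t : F, xU L.Δ.hB r t ∈ D.parabolicSubgroup F J := by
  induction h with
  | @simple j hj hJ =>
    intro t
    exact L.xU_pos_mem_parabolic J ((L.Δ.hsign' _ (L.Δ.hAll j hj).hS.1).2 (L.Δ.hpN j hj)) t
  | @step j s hj hJ hs _ ih =>
    intro t
    have hA := L.Δ.hAll j hj
    have h1 := nU_conj_xU L.Δ.hB hA hs (((etaR D (D.simple j) s : ℤ) : F) * t)
    rw [← mul_assoc, etaR_sq L.Δ.hB hA hs, one_mul] at h1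
    rw [← h1]
    exact Subgroup.mul_mem _ (Subgroup.mul_mem _ (L.nU_mem_parabolic J hj hJ) (ih _))
      (Subgroup.inv_mem _ (L.nU_mem_parabolic J hj hJ))

/-- **`U_J L_J = P_J`.** -/
theorem radical_sup_levi (hchk : jreachChk D = true) :
    D.unipotentRadical F J ⊔ D.leviSubgroup F J = D.parabolicSubgroup F J := by
  apply le_antisymm
  · apply sup_le
    · unfold ChevalleyDatum.unipotentRadical
      rw [Subgroup.closure_le]
      rintro g ⟨r, t, hr1, _, hg⟩
      have hg' : g = xU L.Δ.hB r t := Units.ext (by rw [hg, xU_val])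
      rw [hg']
      exact L.xU_pos_mem_parabolic J hr1 t
    · unfold ChevalleyDatum.leviSubgroup
      apply sup_le
      · exact le_trans L.Δ.diag_le_borel le_sup_left
      · rw [Subgroup.closure_le]
        rintro g ⟨r, t, hr, hg⟩
        have hg' : g = xU L.Δ.hB r t := Units.ext (by rw [hg, xU_val])
        rw [hg']
        exact L.xU_mem_parabolic_of_jreach J (L.jreach_of_inRootSub J hchk hr) t
  · unfold ChevalleyDatum.parabolicSubgroup ChevalleyDatum.borelSubgroup
    refine sup_le (sup_le ?_ ?_) ?_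
    · unfold ChevalleyDatum.posUnipotent
      rw [Subgroup.closure_le]
      rintro g ⟨s, u, hs, hg⟩
      by_cases hin : D.InRootSub J s
      · exact Subgroup.mem_sup_right (Subgroup.mem_sup_right
          (Subgroup.subset_closure ⟨s, u, hin, hg⟩))
      · exact Subgroup.mem_sup_left (Subgroup.subset_closure ⟨s, u, hs, hin, hg⟩)
    · exact le_trans (le_sup_left (b := Subgroup.closure {g : GL D.Idx F | ∃ (r : ℕ) (t : F),
        D.InRootSub J r ∧ (g : Matrix D.Idx D.Idx F) = D.x F r t})) le_sup_right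
    · rw [Subgroup.closure_le]
      rintro g ⟨j, hjJ, hj, hg⟩
      have hin := L.simple_inRootSub J hj hjJ
      have hin' := L.inRootSub_neg J hin
      have hg' : g = xU L.Δ.hB (D.simple j) 1 * xU L.Δ.hB (D.neg (D.simple j)) (-1) *
          xU L.Δ.hB (D.simple j) 1 := by
        apply Units.ext
        rw [hg, Units.val_mul, Units.val_mul, xU_val, xU_val, nMat_eq', inv_one]
      rw [hg']
      have m1 : ∀ t : F, xU L.Δ.hB (D.simple j) t ∈ D.leviSubgroup F J := fun t =>
        Subgroup.mem_sup_right (Subgroup.subset_closure ⟨_, t, hin, rfl⟩)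
      have m2 : ∀ t : F, xU L.Δ.hB (D.neg (D.simple j)) t ∈ D.leviSubgroup F J := fun t =>
        Subgroup.mem_sup_right (Subgroup.subset_closure ⟨_, t, hin', rfl⟩)
      exact Subgroup.mem_sup_right
        (Subgroup.mul_mem _ (Subgroup.mul_mem _ (m1 1) (m2 (-1))) (m1 1))

end LData

/-- the Levi decomposition for a tabulated datum -/
theorem levi_of_tabulated (hD : IsTabulated D) (J : Set ℕ) :
    D.parabolicSubgroup F J ≤ Subgroup.normalizer (D.unipotentRadical F J : Set (GL D.Idx F)) ∧
      D.unipotentRadical F J ⊔ D.leviSubgroup F J = D.parabolicSubgroup F J ∧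
      D.unipotentRadical F J ⊓ D.leviSubgroup F J = ⊥ := by
  have Δ := bnData_of_tabulated F hD
  have hD' := hD
  simp only [IsTabulated, List.mem_cons, List.not_mem_nil, or_false] at hD'
  rcases hD' with rfl | rfl | rfl | rfl | rfl | rfl | rfl
  · have L : LData chevG2 F cG2 := ⟨Δ, signChk_G2⟩
    exact ⟨L.parabolic_le_normalizer J, L.radical_sup_levi J jreachChk_G2, L.radical_inf_levi J⟩
  · have L : LData chevB2 F cB2 := ⟨Δ, signChk_B2⟩
    exact ⟨L.parabolic_le_normalizer J, L.radical_sup_levi J jreachChk_B2, L.radical_inf_levi J⟩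
  · have L : LData chevD4 F cD4 := ⟨Δ, signChk_D4⟩
    exact ⟨L.parabolic_le_normalizer J, L.radical_sup_levi J jreachChk_D4, L.radical_inf_levi J⟩
  · have L : LData chevF4 F cF4 := ⟨Δ, signChk_F4⟩
    exact ⟨L.parabolic_le_normalizer J, L.radical_sup_levi J jreachChk_F4, L.radical_inf_levi J⟩
  · have L : LData chevE6 F cE6 := ⟨Δ, signChk_E6⟩
    exact ⟨L.parabolic_le_normalizer J, L.radical_sup_levi J jreachChk_E6, L.radical_inf_levi J⟩
  · have L : LData chevE7 F cE7 := ⟨Δ, signChk_E7⟩
    exact ⟨L.parabolic_le_normalizer J, L.radical_sup_levi J jreachChk_E7, L.radical_inf_levi J⟩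
  · have L : LData chevE8 F cE8 := ⟨Δ, signChk_E8⟩
    exact ⟨L.parabolic_le_normalizer J, L.radical_sup_levi J jreachChk_E8, L.radical_inf_levi J⟩

end Cfsg.Agent.Helper2.Levi
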