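import Mathlib
import Cfsg.Agent.Helper2.Levi.D
import Cfsg.Agent.Helper2.BN.Parabolic
import Cfsg.Agent.Helper6.Chev.BNPairDef

set_option autoImplicit false
set_option linter.unusedSectionVars false
set_option linter.unusedVariables false

/-! # The normaliser of the unipotent radical `U_J` in the Chevalley group is `P_J` -/

namespace Cfsg.Agent.Helper2.Levi

open Cfsg.Lie Cfsg.Agent.Helper6

variable {D : ChevalleyDatum} {F : Type*} [Field F]

theorem unipotentRadical_le_posUnipotent (J : Set ℕ) :
    D.unipotentRadical F J ≤ D.posUnipotent F := by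
  unfold ChevalleyDatum.unipotentRadical ChevalleyDatum.posUnipotent
  apply Subgroup.closure_mono
  rintro g ⟨r, t, h1, _, h3⟩
  exact ⟨r, t, h1, h3⟩

theorem parabolic_le_group (Δ : BNData D F) (J : Set ℕ) :
    D.parabolicSubgroup F J ≤ D.group F := by
  unfold ChevalleyDatum.parabolicSubgroup
  refine sup_le Δ.borel_le_group ?_
  rw [Subgroup.closure_le]
  rintro g ⟨j, hjJ, hj, hg⟩
  have : g = nU Δ.hB (D.simple j) (one_ne_zero (α := F)) := Units.ext (by rw [hg, nU_val])
  rw [this]
  exact Δ.monomial_le_group (nU_one_mem_monomial Δ.hB (Δ.hAll j hj).hS.1)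

/-- if `n_k` normalises `U_J` then `k ∈ J` -/
theorem mem_of_nU_mem_normalizer (Δ : BNData D F) (J : Set ℕ) {k : ℕ} (hk : k < D.rank)
    (h : nU Δ.hB (D.simple k) (one_ne_zero (α := F)) ∈
      Subgroup.normalizer (D.unipotentRadical F J : Set (GL D.Idx F))) :
    k ∈ J := by
  by_contra hkJ
  have hA := Δ.hAll k hk
  have hp := hA.hS.1
  have hpos : D.IsPosRoot (D.simple k) := (Δ.hsign' _ hp).2 (Δ.hpN k hk)
  have hnot : ¬ D.InRootSub J (D.simple k) := by
    rintro ⟨_, h2⟩
    have h3 := h2 k hk hkJ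
    have h4 := hA.hE.1 k hk
    unfold corootC at h4
    rw [h4, if_pos rfl] at h3
    exact one_ne_zero h3
  have hx : xU Δ.hB (D.simple k) (1 : F) ∈ D.unipotentRadical F J :=
    Subgroup.subset_closure ⟨_, 1, hpos, hnot, rfl⟩
  have hc := (Subgroup.mem_normalizer_iff.1 h _).1 hx
  rw [nU_conj_xU Δ.hB hA hp] at hc
  have hw : wR D (D.simple k) (D.simple k) = D.neg (D.simple k) := by unfold wR; simp
  have he : etaR D (D.simple k) (D.simple k) = -1 := by unfold etaR; simp
  rw [hw, he] at hc
  have hb : xU Δ.hB (D.neg (D.simple k)) (((-1 : ℤ) : F) * 1) ∈ D.borelSubgroup F := by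
    unfold ChevalleyDatum.borelSubgroup
    exact Subgroup.mem_sup_left (unipotentRadical_le_posUnipotent J hc)
  have h0 := Δ.eq_zero_of_xU_neg_mem_borel (Δ.hB.neg _ hp).1 (Δ.hnp hk) hb
  simp at h0

/-- `N_G(U_J) = P_J` given `P_J ≤ N(U_J)` -/
theorem normalizer_inf_group (Δ : BNData D F) (J : Set ℕ)
    (hle : D.parabolicSubgroup F J ≤
      Subgroup.normalizer (D.unipotentRadical F J : Set (GL D.Idx F))) :
    Subgroup.normalizer (D.unipotentRadical F J : Set (GL D.Idx F)) ⊓ D.group F =
      D.parabolicSubgroup F J := by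
  apply le_antisymm
  · rintro g ⟨hgN, hgG⟩
    obtain ⟨M, hMdef⟩ : ∃ M : Subgroup ↥(D.group F), M =
        (Subgroup.normalizer (D.unipotentRadical F J : Set (GL D.Idx F))).subgroupOf (D.group F) :=
      ⟨_, rfl⟩
    have hBM : Δ.bnPair.B ≤ M := by
      intro x hx
      rw [hMdef, Subgroup.mem_subgroupOf]
      have hx' : (x : GL D.Idx F) ∈ D.borelSubgroup F := Subgroup.mem_subgroupOf.1 hx
      apply hle
      unfold ChevalleyDatum.parabolicSubgroup
      exact Subgroup.mem_sup_left hx'
    have hM := Cfsg.Agent.Helper2.BN.eq_parabolic_of_le (P := Δ.bnPair) M hBM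
    have hgM : (⟨g, hgG⟩ : ↥(D.group F)) ∈ M := by
      rw [hMdef, Subgroup.mem_subgroupOf]
      exact hgN
    rw [hM] at hgM
    have hle2 : Δ.bnPair.parabolic (Δ.bnPair.S ∩ (M : Set ↥(D.group F))) ≤
        (D.parabolicSubgroup F J).subgroupOf (D.group F) := by
      unfold Cfsg.BNPair.parabolic
      refine sup_le ?_ ?_
      · intro x hx
        rw [Subgroup.mem_subgroupOf]
        have hx' : (x : GL D.Idx F) ∈ D.borelSubgroup F := Subgroup.mem_subgroupOf.1 hx
        unfold ChevalleyDatum.parabolicSubgroup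
        exact Subgroup.mem_sup_left hx'
      · rw [Subgroup.closure_le]
        rintro s ⟨⟨i, hi, hs⟩, hsM⟩
        rw [SetLike.mem_coe, Subgroup.mem_subgroupOf]
        have hsn := Δ.coe_of_mem_Sset hs
        have hsM' : (s : GL D.Idx F) ∈
            Subgroup.normalizer (D.unipotentRadical F J : Set (GL D.Idx F)) := by
          have := hsM
          rw [SetLike.mem_coe, hMdef, Subgroup.mem_subgroupOf] at this
          exact this
        rw [hsn] at hsM'
        have hiJ := mem_of_nU_mem_normalizer Δ J hi hsM'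
        unfold ChevalleyDatum.parabolicSubgroup
        exact Subgroup.mem_sup_right (Subgroup.subset_closure ⟨i, hiJ, hi, hs⟩)
    have := hle2 hgM
    rw [Subgroup.mem_subgroupOf] at this
    exact this
  · exact le_inf hle (parabolic_le_group Δ J)

/-- `N_G(U_J) = P_J` for a tabulated datum -/
theorem normalizer_of_tabulated (hD : IsTabulated D) (J : Set ℕ) :
    Subgroup.normalizer (D.unipotentRadical F J : Set (GL D.Idx F)) ⊓ D.group F =
      D.parabolicSubgroup F J :=
  normalizer_inf_group (bnData_of_tabulated F hD) J (levi_of_tabulated (F := F) hD J).1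

end Cfsg.Agent.Helper2.Levi
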